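import Groth.Agent.NFlat6.Converse
import Groth.Agent.GenFree.Basic
import Groth.Agent.FlatSyz5.GenFreeNil
import Mathlib

/-!
# Generic freeness of the pieces `p ^ k M / p ^ (k + 1) M`
-/

set_option backward.isDefEq.respectTransparency false
set_option backward.isDefEq.respectTransparency.types false
set_option linter.style.haveILetI false

universe u

open TensorProduct

namespace Groth.Agent.NFlatGen

open Groth.Agent.NFlat6

/-- After inverting an element outside `p` all graded pieces along `p` are projective over `A ⧸ p`. -/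
theorem exists_projective_pieces (A : Type u) [CommRing A] [IsNoetherianRing A] (p : Ideal A) [p.IsPrime]
    (M : Type u) [AddCommGroup M] [Module A M] [Module.Finite A M] :
    ∃ f : A ⧸ p, f ≠ 0 ∧ ∀ (T : Type u) [CommRing T] [Algebra (A ⧸ p) T],
      IsUnit (algebraMap (A ⧸ p) T f) → ∀ k, Module.Projective T (T ⊗[A ⧸ p] Pc p M k) := by
  let F := p.stableFiltration (⊤ : Submodule A M)
  have hF : F.submodule.FG :=
    (F.submodule_fg_iff_stable fun i => IsNoetherian.noetherian _).2 (p.stableFiltration_stable _)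
  haveI : Module.Finite (reesAlgebra p) F.submodule := Module.Finite.iff_fg.2 hF
  let S := ↥(reesAlgebra p)
  letI : CommRing S := (reesAlgebra p).toCommRing
  letI : Module S F.submodule := F.submodule.module
  haveI : Algebra.FiniteType A S := inferInstanceAs (Algebra.FiniteType A (reesAlgebra p))
  haveI : Module.Finite S F.submodule := ‹Module.Finite (reesAlgebra p) F.submodule›
  let I : Ideal S := p.map (algebraMap A S)
  let N : Submodule S F.submodule := I • ⊤
  let E := F.submodule ⧸ N
  haveI : Module.Finite S E := Module.Finite.of_surjective _ N.mkQ_surjective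
  haveI : Module.Finite (S ⧸ I) E := Module.Finite.of_restrictScalars_finite S (S ⧸ I) E
  haveI : Algebra.FiniteType A (S ⧸ I) := Algebra.FiniteType.of_surjective
    (Ideal.Quotient.mkₐ A I) Ideal.Quotient.mk_surjective
  haveI : Algebra.FiniteType (A ⧸ p) (S ⧸ I) := Algebra.FiniteType.of_restrictScalars_finiteType A _ _
  letI : Module (A ⧸ p) E := Module.compHom E (algebraMap (A ⧸ p) (S ⧸ I))
  haveI : IsScalarTower (A ⧸ p) (S ⧸ I) E := .of_algebraMap_smul fun _ _ => rfl
  haveI : IsScalarTower A S F.submodule := ⟨fun a s x => Subtype.ext (smul_assoc a (s : reesAlgebra p) (x : PolynomialModule A M))⟩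
  haveI : IsScalarTower A (A ⧸ p) E := .of_algebraMap_smul fun a x => by
    obtain ⟨x, rfl⟩ := N.mkQ_surjective x
    show N.mkQ (algebraMap A S a • x) = a • N.mkQ x
    rw [IsScalarTower.algebraMap_smul]
    rfl
  obtain ⟨f, hf, ι, φ, hφ, hr⟩ := GenFree.exists_gfree (R := A ⧸ p) (M := E) (S ⧸ I)
  refine ⟨f, hf, fun T _ _ hu k => ?_⟩
  haveI : Module.Free T (T ⊗[A ⧸ p] E) := FlatSyz5.free_baseChange_of_free φ hφ f
    (fun y => (hr y).imp fun k ⟨c, hc⟩ => ⟨c, hc.symm⟩) hu
  have hsmE : ∀ (a : A) (x : F.submodule), a • N.mkQ x = N.mkQ (algebraMap A S a • x) := fun a x => by rw [IsScalarTower.algebraMap_smul]; rfl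
  have hsm : ∀ (b : A) (x : F.submodule) (i : ℕ),
      (((algebraMap A S b) • x : F.submodule) : PolynomialModule A M).coeff i =
        b • (x : PolynomialModule A M).coeff i := fun b x i => by
    rw [Submodule.coe_smul, Subalgebra.smul_def]
    show ((algebraMap A (Polynomial A) b) • (x : PolynomialModule A M)).coeff i = _
    rw [IsScalarTower.algebraMap_smul]
    rfl
  have hN : ∀ x ∈ N, (x : PolynomialModule A M).coeff k ∈ Pw p M (k + 1) := by
    intro x hx
    refine Submodule.smul_induction_on hx ?_ ?_
    · intro r hr y _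
      refine Submodule.span_induction (p := fun r _ => ∀ y : F.submodule,
        ((r • y : F.submodule) : PolynomialModule A M).coeff k ∈ Pw p M (k + 1)) ?_ ?_ ?_ ?_ hr y
      · rintro _ ⟨j, hj, rfl⟩ y
        rw [hsm]
        exact smul_mem_Pw_succ (y.2 k) hj
      · intro y; simp
      · intro a b _ _ ha hb y
        rw [add_smul, Submodule.coe_add, PolynomialModule.coeff_add, Finsupp.add_apply]
        exact add_mem (ha y) (hb y)
      · intro c a _ ha y
        rw [smul_eq_mul, mul_comm, mul_smul]
        exact ha _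
    · intro x y hx hy
      rw [Submodule.coe_add, PolynomialModule.coeff_add, Finsupp.add_apply]
      exact add_mem hx hy
  let sk : ↥(Pw p M k) → F.submodule := fun y =>
    ⟨PolynomialModule.single A k (y : M), fun i => by
      rw [PolynomialModule.coeff_single]
      classical
      rw [Finsupp.single_apply]
      split_ifs with h
      · subst h; exact y.2
      · exact zero_mem _⟩
  have hsk : ∀ (a : A) (y : ↥(Pw p M k)), sk (a • y) = algebraMap A S a • sk y := fun a y => by
    refine Subtype.ext (PolynomialModule.ext (Finsupp.ext fun i => ?_))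
    rw [hsm]
    simp [sk, PolynomialModule.coeff_single, Finsupp.single_apply]
  let s₀ : ↥(Pw p M k) →ₗ[A] E :=
    { toFun := fun y => N.mkQ (sk y)
      map_add' := fun y z => by
        rw [← map_add]; congr 1; apply Subtype.ext
        simp [sk]
      map_smul' := fun r y => by
        show N.mkQ (sk (r • y)) = r • N.mkQ (sk y)
        rw [hsk, hsmE] }
  let s : Pc p M k →ₗ[A] E := Submodule.liftQ _ s₀ (by
    rw [Submodule.smul_le]
    intro j hj y _
    rw [LinearMap.mem_ker]
    show N.mkQ (sk (j • y)) = 0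
    rw [hsk]
    exact (Submodule.Quotient.mk_eq_zero N).2
      (Submodule.smul_mem_smul (Ideal.mem_map_of_mem _ hj) Submodule.mem_top))
  let r₀ : F.submodule →+ Pc p M k :=
    { toFun := fun x => Submodule.Quotient.mk ⟨(x : PolynomialModule A M).coeff k, x.2 k⟩
      map_zero' := rfl
      map_add' := fun x y => rfl }
  let r : E →ₗ[A] Pc p M k :=
    { toFun := Quotient.lift (fun x => r₀ x) fun x y h => by
        rw [← sub_eq_zero, ← map_sub]
        exact (pc_mk_eq_zero _).2 (hN _ ((Submodule.quotientRel_def _).1 h))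
      map_add' := fun x y => Quotient.inductionOn₂' x y fun a b => map_add r₀ a b
      map_smul' := fun c x => Quotient.inductionOn' x fun a => by
        show r₀ (c • a) = c • r₀ a
        rw [← IsScalarTower.algebraMap_smul S c a]
        show Submodule.Quotient.mk _ = c • Submodule.Quotient.mk _
        rw [← Submodule.Quotient.mk_smul]
        exact congrArg Submodule.Quotient.mk (Subtype.ext (hsm c a k)) }
  let s' := s.extendScalarsOfSurjective (S := A ⧸ p) Ideal.Quotient.mk_surjective
  let r' := r.extendScalarsOfSurjective (S := A ⧸ p) Ideal.Quotient.mk_surjective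
  have hrs : r' ∘ₗ s' = LinearMap.id := by
    refine LinearMap.ext fun x => Quotient.inductionOn' x fun a => ?_
    show Submodule.Quotient.mk _ = Submodule.Quotient.mk a
    congr 1
    apply Subtype.ext
    simp [sk, PolynomialModule.coeff_single]
  exact Module.Projective.of_split (s'.baseChange T) (r'.baseChange T)
    (by rw [← LinearMap.baseChange_comp, hrs, LinearMap.baseChange_id])

/-- Generic normal flatness. -/
theorem exists_isNormallyFlat (A : Type u) [CommRing A] [IsNoetherianRing A] (p : Ideal A) [p.IsPrime]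
    (M : Type u) [AddCommGroup M] [Module A M] [Module.Finite A M] :
    ∃ f : A, f ∉ p ∧ EGA4.IsNormallyFlat (p.map (algebraMap A (Localization.Away f)))
      (LocalizedModule (Submonoid.powers f) M) := by
  obtain ⟨fb, hfb, hproj⟩ := exists_projective_pieces A p M
  obtain ⟨f, rfl⟩ := Ideal.Quotient.mk_surjective fb
  refine ⟨f, fun h => hfb (Ideal.Quotient.eq_zero_iff_mem.2 h), fun k => ?_⟩
  let Af := Localization.Away f
  let J := p.map (algebraMap A Af)
  let M' := LocalizedModule (Submonoid.powers f) M
  let W := Submonoid.powers f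
  let T := Af ⧸ J
  let N2 := Pc J M' k
  haveI hloc := isLocalizedModule_pcMap (R := p) W (LocalizedModule.mkLinearMap W M) k
  have hP : (Pw J M' k).restrictScalars A = Pw p M' k := by
    show ((J ^ k • ⊤ : Submodule Af M')).restrictScalars A = _
    rw [show J ^ k = (p ^ k).map (algebraMap A Af) from (Ideal.map_pow _ p k).symm,
      Submodule.restrictScalars_map_smul_eq, Submodule.restrictScalars_top]
  have hP' : (Pw J M' (k + 1)).restrictScalars A = Pw p M' (k + 1) := by
    show ((J ^ (k + 1) • ⊤ : Submodule Af M')).restrictScalars A = _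
    rw [show J ^ (k + 1) = (p ^ (k + 1)).map (algebraMap A Af) from (Ideal.map_pow _ p _).symm,
      Submodule.restrictScalars_map_smul_eq, Submodule.restrictScalars_top]
  letI : Module (A ⧸ p) N2 := Module.compHom N2 (algebraMap (A ⧸ p) T)
  haveI : IsScalarTower (A ⧸ p) T N2 := .of_algebraMap_smul fun _ _ => rfl
  have hsm : ∀ (a : A) (x : N2), (Ideal.Quotient.mk p a) • x = a • x := fun a x => by
    obtain ⟨x, rfl⟩ := Submodule.Quotient.mk_surjective _ x
    show (algebraMap A Af a) • (Submodule.Quotient.mk x : N2) = _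
    rw [IsScalarTower.algebraMap_smul]
  haveI : IsScalarTower A (A ⧸ p) N2 := .of_algebraMap_smul hsm
  let e0 : ↥(Pw p M' k) →ₗ[A] N2 :=
    { toFun := fun y => Submodule.Quotient.mk ⟨(y : M'), hP.ge y.2⟩
      map_add' := fun _ _ => rfl
      map_smul' := fun _ _ => rfl }
  let e1 : Pc p M' k →ₗ[A] N2 := Submodule.liftQ _ e0 fun y hy => by
    rw [LinearMap.mem_ker]
    exact (pc_mk_eq_zero _).2 (hP'.ge ((mem_smul_top_iff_val y).1 hy))
  have he1 : Function.Bijective e1 := by
    refine ⟨(injective_iff_map_eq_zero e1).2 fun z hz => ?_, fun z => ?_⟩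
    · obtain ⟨y, rfl⟩ := Submodule.Quotient.mk_surjective _ z
      exact (pc_mk_eq_zero _).2 (hP'.le ((pc_mk_eq_zero _).1 hz))
    · obtain ⟨⟨y, hy⟩, rfl⟩ := Submodule.Quotient.mk_surjective _ z
      exact ⟨Submodule.Quotient.mk ⟨y, hP.le hy⟩, rfl⟩
  let gA : Pc p M k →ₗ[A] N2 :=
    (LinearEquiv.ofBijective e1 he1).toLinearMap ∘ₗ pcMap (R := p) (LocalizedModule.mkLinearMap W M) k
  haveI : IsLocalizedModule W gA := IsLocalizedModule.of_linearEquiv W _ _
  let g := gA.extendScalarsOfSurjective (S := A ⧸ p) Ideal.Quotient.mk_surjective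
  let W' := Algebra.algebraMapSubmonoid (A ⧸ p) W
  haveI : IsLocalizedModule W' g := by
    refine ⟨fun w => ?_, fun z => ?_, fun {a b} h => ?_⟩
    · obtain ⟨_, w, hw, rfl⟩ := w
      have hu := IsLocalizedModule.map_units gA (⟨w, hw⟩ : W)
      rw [Module.End.isUnit_iff] at hu ⊢
      have : ⇑(algebraMap (A ⧸ p) (Module.End (A ⧸ p) N2) (algebraMap A (A ⧸ p) w)) =
          ⇑(algebraMap A (Module.End A N2) w) := funext fun z => hsm w z
      rw [this]; exact hu
    · obtain ⟨⟨n, w⟩, hn⟩ := IsLocalizedModule.surj W gA z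
      exact ⟨(n, ⟨_, w, w.2, rfl⟩), (hsm w z).trans hn⟩
    · obtain ⟨c, hc⟩ := IsLocalizedModule.exists_of_eq (S := W) (f := gA) h
      refine ⟨⟨_, c, c.2, rfl⟩, ?_⟩
      show (algebraMap A (A ⧸ p) c) • a = (algebraMap A (A ⧸ p) c) • b
      rw [IsScalarTower.algebraMap_smul, IsScalarTower.algebraMap_smul]
      exact hc
  have hu : IsUnit (algebraMap (A ⧸ p) T (Ideal.Quotient.mk p f)) :=
    IsLocalization.map_units T (⟨_, f, Submonoid.mem_powers f, rfl⟩ : W')
  haveI := hproj T hu k
  exact Module.Flat.of_linearEquiv (IsLocalizedModule.isBaseChange W' T g).equiv.symm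

end Groth.Agent.NFlatGen
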